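import Mathlib
import Cfsg.Agent.Lib.MultC.Model

/-! permutation model of degree 24: generators and a stabiliser chain (generated) -/

set_option autoImplicit false
set_option maxRecDepth 100000

namespace CfsgLib.MultC.M22

open CfsgLib.Comput CfsgLib.MultC

noncomputable def u0_0 : Net :=
  Net.cons 1 0x511404
  (Net.cons 2 0x312220
  (Net.cons 4 0x80500
  (Net.cons 8 65
  (Net.cons 16 227
  (Net.cons 8 25
  (Net.cons 4 0x60708
  (Net.cons 2 0x302130
  (Net.cons 1 0x451010
  (Net.nil)))))))))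

noncomputable def u0_1 : Net :=
  Net.cons 1 0x444104
  (Net.cons 2 0x211220
  (Net.cons 4 0x60000
  (Net.cons 8 65
  (Net.cons 16 203
  (Net.cons 8 169
  (Net.cons 4 0xd0a04
  (Net.cons 2 0x232130
  (Net.cons 1 0x404550
  (Net.nil)))))))))

noncomputable def u1_0 : Net :=
  Net.cons 1 0x144410
  (Net.cons 2 0x222210
  (Net.cons 4 0x400
  (Net.cons 8 3
  (Net.cons 16 7
  (Net.cons 8 99
  (Net.cons 4 0x80c00
  (Net.cons 2 0x222210
  (Net.cons 1 0x144450
  (Net.nil)))))))))

noncomputable def u1_1 : Net :=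
  Net.cons 1 0x410100
  (Net.cons 2 0x22120
  (Net.cons 4 0x30700
  (Net.cons 8 148
  (Net.cons 16 180
  (Net.cons 8 108
  (Net.cons 4 0x90c0c
  (Net.cons 2 0x32210
  (Net.cons 1 0x455004
  (Net.nil)))))))))

noncomputable def u2_0 : Net :=
  Net.cons 1 0x414040
  (Net.cons 2 0x310000
  (Net.cons 4 0x80300
  (Net.cons 8 78
  (Net.cons 16 110
  (Net.cons 8 54
  (Net.cons 4 0xa0308
  (Net.cons 2 0x122120
  (Net.cons 1 0x541040
  (Net.nil)))))))))

noncomputable def u2_1 : Net :=
  Net.cons 1 0x441440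
  (Net.cons 2 0x210300
  (Net.cons 4 0x60b00
  (Net.cons 8 120
  (Net.cons 16 248
  (Net.cons 8 72
  (Net.cons 4 0x40500
  (Net.cons 2 0x232100
  (Net.cons 1 0x454400
  (Net.nil)))))))))

noncomputable def u3_0 : Net :=
  Net.cons 1 0x410400
  (Net.cons 2 0x132300
  (Net.cons 4 0xc0200
  (Net.cons 8 131
  (Net.cons 16 227
  (Net.cons 8 99
  (Net.cons 4 0xa0800
  (Net.cons 2 0x312010
  (Net.cons 1 0x400450
  (Net.nil)))))))))

noncomputable def u3_1 : Net :=
  Net.cons 1 0x441440
  (Net.cons 2 0x210300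
  (Net.cons 4 0x60b00
  (Net.cons 8 120
  (Net.cons 16 248
  (Net.cons 8 72
  (Net.cons 4 0x40500
  (Net.cons 2 0x232100
  (Net.cons 1 0x454400
  (Net.nil)))))))))

noncomputable def u3_2 : Net :=
  Net.cons 1 0x401140
  (Net.cons 2 0x21200
  (Net.cons 4 0xc0800
  (Net.cons 8 43
  (Net.cons 16 123
  (Net.cons 8 171
  (Net.cons 4 0xc0c00
  (Net.cons 2 0x21200
  (Net.cons 1 0x401140
  (Net.nil)))))))))

noncomputable def u4_0 : Net :=
  Net.cons 1 0x455440
  (Net.cons 2 0x122000
  (Net.cons 4 0x10800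
  (Net.cons 8 22
  (Net.cons 16 182
  (Net.cons 8 246
  (Net.cons 4 0xf0200
  (Net.cons 2 0x103000
  (Net.cons 1 0x440500
  (Net.nil)))))))))

noncomputable def V0 : List Net := [u0_0, u0_1]
noncomputable def U0 : List Net := (V0 ++ revL V0)
noncomputable def V1 : List Net := [u1_0, u1_1]
noncomputable def U1 : List Net := U0 ++ (V1 ++ revL V1)
noncomputable def V2 : List Net := [u2_0, u2_1]
noncomputable def U2 : List Net := U1 ++ (V2 ++ revL V2)
noncomputable def V3 : List Net := [u3_0, u3_1, u3_2]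
noncomputable def U3 : List Net := U2 ++ (V3 ++ revL V3)
noncomputable def V4 : List Net := [u4_0]
noncomputable def U4 : List Net := U3 ++ (V4 ++ revL V4)
noncomputable def U : List Net := U4

theorem v1 : wordsOK 24 5 U0 V1 [[0x302020101040401], [0x3020101020203040101]] = true := by decide +kernel
theorem v2 : wordsOK 24 5 U1 V2 [[0x808070606070808], [0x708070807070606]] = true := by decide +kernel
theorem v3 : wordsOK 24 5 U2 V3 [[0x9090a090a0b0a0909], [0xb0a0a0b0c0b], [0x90a0b0c0c0c0c0b0b0c09]] = true := by decide +kernel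
theorem v4 : wordsOK 24 5 U3 V4 [[0x11120d12110d0d110d]] = true := by decide +kernel

theorem realU {G Ω : Type*} [Group G] [MulAction G Ω] {pt : ℕ → Ω} (h : AllReal G 24 pt V0) :
    AllReal G 24 pt U := by
  have h0 : AllReal G 24 pt U0 := h.append h.rev
  have k1 : AllReal G 24 pt V1 := h0.words (by norm_num) v1
  have h1 : AllReal G 24 pt U1 := h0.append (k1.append k1.rev)
  have k2 : AllReal G 24 pt V2 := h1.words (by norm_num) v2
  have h2 : AllReal G 24 pt U2 := h1.append (k2.append k2.rev)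
  have k3 : AllReal G 24 pt V3 := h2.words (by norm_num) v3
  have h3 : AllReal G 24 pt U3 := h2.append (k3.append k3.rev)
  have k4 : AllReal G 24 pt V4 := h3.words (by norm_num) v4
  have h4 : AllReal G 24 pt U4 := h3.append (k4.append k4.rev)
  exact h4

end CfsgLib.MultC.M22
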