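import Mathlib
import Cfsg.Agent.Lib.MultC.Out

/-! generated certificate -/

set_option autoImplicit false
set_option maxRecDepth 100000
set_option Elab.async false

namespace CfsgLib.MultC.M22.O

open CfsgLib.Comput CfsgLib.MultC

noncomputable def u0_0 : Net :=
  Net.cons 1 0x10054
  (Net.cons 2 0x21320
  (Net.cons 4 0xe0300
  (Net.cons 8 82
  (Net.cons 16 210
  (Net.cons 8 234
  (Net.cons 4 0xc0f0a
  (Net.cons 2 0x110030
  (Net.cons 1 0x5550
  (Net.nil)))))))))

noncomputable def u0_1 : Net :=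
  Net.cons 1 0x155100
  (Net.cons 2 0x210100
  (Net.cons 4 0x80400
  (Net.cons 8 13
  (Net.cons 16 141
  (Net.cons 8 109
  (Net.cons 4 776
  (Net.cons 2 0x322300
  (Net.cons 1 0x4444
  (Net.nil)))))))))

noncomputable def u0_2 : Net :=
  Net.cons 1 0x545414
  (Net.cons 2 0x203200
  (Net.cons 4 0x50800
  (Net.cons 8 192
  (Net.cons 16 208
  (Net.cons 8 84
  (Net.cons 4 0x50f06
  (Net.cons 2 0x2310
  (Net.cons 1 0x554410
  (Net.nil)))))))))

noncomputable def u1_0 : Net :=
  Net.cons 1 0x541414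
  (Net.cons 2 256
  (Net.cons 4 0x60800
  (Net.cons 8 105
  (Net.cons 16 233
  (Net.cons 8 113
  (Net.cons 4 0x60802
  (Net.cons 2 0x201000
  (Net.cons 1 0x441010
  (Net.nil)))))))))

noncomputable def u1_1 : Net :=
  Net.cons 1 0x145110
  (Net.cons 2 0x111230
  (Net.cons 4 0xa0000
  (Net.cons 8 176
  (Net.cons 16 240
  (Net.cons 8 102
  (Net.cons 4 0xb0604
  (Net.cons 2 0x102000
  (Net.cons 1 0x51140
  (Net.nil)))))))))

noncomputable def u2_0 : Net :=
  Net.cons 1 0x501114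
  (Net.cons 2 0x200210
  (Net.cons 4 0x40000
  (Net.cons 8 56
  (Net.cons 16 120
  (Net.cons 8 76
  (Net.cons 4 0xe0606
  (Net.cons 2 0x233202
  (Net.cons 1 0x445110
  (Net.nil)))))))))

noncomputable def u2_1 : Net :=
  Net.cons 1 0x115140
  (Net.cons 2 0x20000
  (Net.cons 4 0x20800
  (Net.cons 16 56
  (Net.cons 8 132
  (Net.cons 4 0x20c00
  (Net.cons 2 0x112200
  (Net.cons 1 0x144140
  (Net.nil))))))))

noncomputable def u3_0 : Net :=
  Net.cons 1 0x11404
  (Net.cons 2 0x21310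
  (Net.cons 4 0x60300
  (Net.cons 8 65
  (Net.cons 16 113
  (Net.cons 8 83
  (Net.cons 4 0x20104
  (Net.cons 2 0x1310
  (Net.cons 1 0x15400
  (Net.nil)))))))))

noncomputable def u3_1 : Net :=
  Net.cons 1 0x115040
  (Net.cons 2 0x312000
  (Net.cons 4 0xc0000
  (Net.cons 8 208
  (Net.cons 16 210
  (Net.cons 8 212
  (Net.cons 4 0x40100
  (Net.cons 2 0x312022
  (Net.cons 1 0x111450
  (Net.nil)))))))))

noncomputable def u3_2 : Net :=
  Net.cons 1 0x415404
  (Net.cons 2 0x201210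
  (Net.cons 4 0x60400
  (Net.cons 8 19
  (Net.cons 16 91
  (Net.cons 8 23
  (Net.cons 4 0x50500
  (Net.cons 2 0x201312
  (Net.cons 1 0x410414
  (Net.nil)))))))))

noncomputable def u4_0 : Net :=
  Net.cons 1 0x100114
  (Net.cons 2 0x10010
  (Net.cons 4 0x90000
  (Net.cons 8 130
  (Net.cons 16 182
  (Net.cons 8 158
  (Net.cons 4 0x90a06
  (Net.cons 2 0x22000
  (Net.cons 1 0x145110
  (Net.nil)))))))))

noncomputable def u5_0 : Net :=
  Net.cons 1 0x140554
  (Net.cons 2 0x322010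
  (Net.cons 4 0x80600
  (Net.cons 8 155
  (Net.cons 16 219
  (Net.cons 8 193
  (Net.cons 4 0x10f06
  (Net.cons 2 0x232030
  (Net.cons 1 0x114450
  (Net.nil)))))))))

noncomputable def sN : Net :=
  Net.cons 1 0x444454
  (Net.cons 2 0x122200
  (Net.cons 4 0x500
  (Net.cons 8 193
  (Net.cons 16 205
  (Net.cons 8 29
  (Net.cons 4 0xe0b0e
  (Net.cons 2 0x122200
  (Net.cons 1 0x455454
  (Net.nil)))))))))

noncomputable def s0_0 : ℕ := 0x7ffffe
noncomputable def s3_0 : ℕ := 0xa2c281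
noncomputable def s4_0 : ℕ := 0xe90ec9
noncomputable def V0 : List Net := [u0_0, u0_1, u0_2]
noncomputable def U0 : List Net := (V0 ++ revL V0)
noncomputable def V1 : List Net := [u1_0, u1_1]
noncomputable def U1 : List Net := U0 ++ (V1 ++ revL V1)
noncomputable def V2 : List Net := [u2_0, u2_1]
noncomputable def U2 : List Net := U1 ++ (V2 ++ revL V2)
noncomputable def V3 : List Net := [u3_0, u3_1, u3_2]
noncomputable def U3 : List Net := U2 ++ (V3 ++ revL V3)
noncomputable def V4 : List Net := [u4_0]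
noncomputable def U4 : List Net := U3 ++ (V4 ++ revL V4)
noncomputable def V5 : List Net := [u5_0]
noncomputable def U5 : List Net := U4 ++ (V5 ++ revL V5)
noncomputable def Wr : List Net := (((((revL V0) ++ (V1 ++ revL V1)) ++ (V2 ++ revL V2)) ++ (V3 ++ revL V3)) ++ (V4 ++ revL V4)) ++ (V5 ++ revL V5)
noncomputable def W : List Net := u0_0 :: u0_1 :: u0_2 :: Wr

noncomputable def lev4 : Lev := (20, 1, [20, 21], 0x300000, [s4_0])
noncomputable def L4 : List Lev := lev4 :: []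
noncomputable def lev3 : Lev := (22, 1, [14, 15, 16, 17, 18, 19], 0x3fc000, [s3_0])
noncomputable def L3 : List Lev := lev3 :: L4
noncomputable def lev2 : Lev := (21, 2, [10, 11, 12, 13], 0x3ffc00, [])
noncomputable def L2 : List Lev := lev2 :: L3
noncomputable def lev1 : Lev := (7, 2, [6, 7, 8, 9], 0x3fffc0, [])
noncomputable def L1 : List Lev := lev1 :: L2
noncomputable def lev0 : Lev := (9, 2, [0, 1, 2, 3, 4, 5], 0x3fffff, [s0_0])
noncomputable def L0 : List Lev := lev0 :: L1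
noncomputable def D : OD where
  r := 11
  u := 2
  J := [1, 10]
  K := [0, 0, 3, 4, 1, 2, 2, 1, 4, 3, 0]
  wl := 2
  wt := 0x202
  m := 5
  V := [0]
  pa := [1, 4]
  pl := [0, 2, 0x202, 0x505, 5]
  R := [(0x301, 5)]
  P := [9]
  S := [0, 5]
noncomputable def ma : List (ℕ × ℕ) := [(22, 1), (23, 10)]
noncomputable def ml : List (ℕ × ℕ) := [(1, 1), (4, 4)]

end CfsgLib.MultC.M22.O
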