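import Mathlib
import Cfsg.Agent.Lib.MultC.M22.Base

/-! multiplier certificate for the prime 2 (generated) -/

set_option autoImplicit false
set_option maxRecDepth 100000

namespace CfsgLib.MultC.M22.P2

open CfsgLib.Comput CfsgLib.MultC

noncomputable def x0 : Net :=
  Net.cons 1 0x501404
  (Net.cons 2 0x11200
  (Net.cons 4 0x400
  (Net.cons 8 17
  (Net.cons 16 17
  (Net.cons 8 183
  (Net.cons 4 0x602
  (Net.cons 2 0x211210
  (Net.cons 1 0x501404
  (Net.nil)))))))))

noncomputable def x1 : Net :=
  Net.cons 1 0x110100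
  (Net.cons 2 0x233300
  (Net.cons 4 0x80800
  (Net.cons 8 6
  (Net.cons 16 14
  (Net.cons 8 230
  (Net.cons 4 0x90900
  (Net.cons 2 0x233300
  (Net.cons 1 0x110100
  (Net.nil)))))))))

noncomputable def x2 : Net :=
  Net.cons 1 0x1040
  (Net.cons 2 0x30000
  (Net.cons 4 0x80c00
  (Net.cons 8 160
  (Net.cons 16 164
  (Net.cons 8 248
  (Net.cons 4 0x90c00
  (Net.cons 2 0x30020
  (Net.cons 1 0x1040
  (Net.nil)))))))))

noncomputable def x3 : Net :=
  Net.cons 1 0x145140
  (Net.cons 2 0x332000
  (Net.cons 4 0xe0400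
  (Net.cons 8 13
  (Net.cons 16 173
  (Net.cons 8 197
  (Net.cons 4 0x60e08
  (Net.cons 2 0x332000
  (Net.cons 1 0x145140
  (Net.nil)))))))))

noncomputable def x4 : Net :=
  Net.cons 1 0x5014
  (Net.cons 2 0x303010
  (Net.cons 4 0x10200
  (Net.cons 8 129
  (Net.cons 16 129
  (Net.cons 8 147
  (Net.cons 4 0x50604
  (Net.cons 2 0x303030
  (Net.cons 1 0x5014
  (Net.nil)))))))))

noncomputable def x5 : Net :=
  Net.cons 1 0x40104
  (Net.cons 2 0x1300
  (Net.cons 4 0xe00
  (Net.cons 8 8
  (Net.cons 16 120
  (Net.cons 8 142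
  (Net.cons 4 0xf00
  (Net.cons 2 0x101310
  (Net.cons 1 0x40104
  (Net.nil)))))))))

noncomputable def x6 : Net :=
  Net.cons 1 0x501040
  (Net.cons 2 0x303100
  (Net.cons 4 0x20100
  (Net.cons 8 128
  (Net.cons 16 130
  (Net.cons 8 240
  (Net.cons 4 0x60408
  (Net.cons 2 0x302010
  (Net.cons 1 0x501040
  (Net.nil)))))))))

noncomputable def x7 : Net :=
  Net.cons 1 0x111000
  (Net.cons 2 0x302000
  (Net.cons 4 256
  (Net.cons 8 130
  (Net.cons 16 206
  (Net.cons 8 178
  (Net.cons 4 256
  (Net.cons 2 0x303000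
  (Net.cons 1 0x151004
  (Net.nil)))))))))

noncomputable def x8 : Net :=
  Net.cons 1 0x400450
  (Net.cons 2 0x210000
  (Net.cons 4 0x80000
  (Net.cons 8 11
  (Net.cons 16 59
  (Net.cons 8 163
  (Net.cons 4 0x80100
  (Net.cons 2 0x230010
  (Net.cons 1 0x404450
  (Net.nil)))))))))

noncomputable def x9 : Net :=
  Net.cons 1 0x114000
  (Net.cons 2 0x223010
  (Net.cons 4 0x60900
  (Net.cons 8 128
  (Net.cons 16 236
  (Net.cons 8 80
  (Net.cons 4 0xb0e04
  (Net.cons 2 0x212110
  (Net.cons 1 0x140544
  (Net.nil)))))))))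

noncomputable def X : List Net := [x0, x1, x2, x3, x4, x5, x6, x7, x8, x9]

def D : Dat := ⟨1, 7, 1,
  0x102040810200040830204002810604000810a000c2803100,
  17, 0x404020a02808080804060202020201,
  0x68540aa08418388a11420104010441,
  0x22222111111000000, 8⟩

def R0 : List (ℕ × ℕ × ℕ × List ℕ) := [(4, 2, 0, [54, 199, 231]),
  (4, 0, 0, [50, 161, 225]),
  (4, 2, 1, [70, 135, 151]),
  (4, 1, 1, [66, 113, 145]),
  (8, 3, 0, [102, 295, 327]),
  (8, 0, 0, [98, 241, 321]),
  (16, 4, 1, [182, 311, 327]),
  (16, 1, 1, [178, 257, 321]),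
  (16, 4, 3, [214, 407, 439]),
  (16, 3, 3, [210, 385, 433]),
  (32, 5, 2, [278, 423, 439]),
  (32, 2, 2, [274, 369, 433]),
  (16, 3, 2, [369]),
  (32, 3, 2, [391]),
  (2, 1, 0, [22, 263, 327, 359, 423, 439]),
  (2, 0, 0, [18, 241, 321, 337, 417, 433]),
  (16, 3, 0, [305, 337, 423]),
  (8, 2, 0, [209, 279, 311, 407, 417]),
  (8, 1, 0, [263, 289, 385, 417]),
  (4, 1, 0, [97, 183, 209, 273, 289, 305, 369, 418, 433])]
def R1 : List (ℕ × List ℕ × List ℕ × List ℕ) := [(0, [5, 5], [], [530]),
  (0, [1, 1], [], [87, 145, 466]),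
  (0, [4, 4], [], [225, 327, 514]),
  (0, [2, 2], [], [81, 151, 482]),
  (0, [0, 0], [], [337, 433, 450]),
  (0, [2, 4], [4, 2], [193, 295]),
  (0, [2, 3], [5, 3, 2], [215, 273, 535]),
  (0, [0, 2], [4, 2, 0], [49, 103, 375, 407, 519]),
  (1, [11, 11], [], [321, 439, 626]),
  (1, [7, 7], [], [39, 145, 562]),
  (1, [8, 8], [], [33, 113, 578]),
  (1, [6, 6], [], [7, 225, 401, 433, 546]),
  (1, [10, 10], [], [417, 433, 610]),
  (1, [6, 7], [11, 10, 7, 6], [23, 215, 327, 391, 423, 439, 615, 631]),
  (1, [6, 8], [10, 8, 6], [103, 183, 215, 295, 327, 359, 391, 423, 439, 615]),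
  (2, [12, 12], [], [39, 145, 642]),
  (2, [14, 14], [], [33, 151, 674]),
  (2, [14, 16], [16, 14], [113, 257, 353, 391]),
  (2, [15, 15], [], [33, 113, 145, 257, 289, 690]),
  (2, [16, 16], [], [145, 289, 321, 385, 417, 706]),
  (2, [13, 13], [], [369, 401, 433, 658]),
  (2, [13, 14], [16, 14, 13], [71, 135, 151, 183, 295, 327, 359, 391, 423, 711]),
  (2, [12, 13], [16, 15, 14, 13, 12], [39, 69, 119, 135, 150, 181, 263, 295, 326, 358, 423, 679, 695, 711])]

noncomputable def A : LA := ⟨16, [[513, 551, 625, 658], [177, 561, 673, 689, 711], [177, 465, 482, 675, 693, 711], [177, 675, 693, 711], [177, 513, 578, 675, 691], [177, 578, 675, 691], [177, 625, 658, 675, 693, 710]],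
  [[177, 578, 609, 625, 674, 692, 710]], [4],
  Dat.sps R0 ++ (Dat.sps R1),
  [0x200000000100700000700000000760073000000000,
  0x570774117014300000000131266520044222200004,
  0x22070604006003600000000050000426600100044004,
  0x51070204203010670040000131315515100337322004,
  0x74056410006044600000000060622300000566615004,
  0x22070664006000600006070050000426600100044004,
  0x51070204207010200000000131715025137377322004,
  0x700000000000040000010137244400115100000,
  0x700000044000040000010137244400115151000,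
  0x22070664006000600000000050000426600100044004,
  0x60660001020500340400070666700000762200736,
  0x51050064007030300040000040315017300637322002,
  0x60660001020500740000030666344400362200006,
  0x73170060706010300040000737400200022240066003,
  0x22006400005040100000700000266253700622244006,
  0x60660001020500040000070666700000761500006,
  0x60660005020100000000040266471500322200006,
  0x73150604701030200040000770666144451652266005,
  0x60660001020500040000030666344400362200006,
  0x60660005020100000000040266471500432200006,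
  0x22006400005040100000000000266253700622244006,
  0x60660007020300040000040566444400452200002,
  0x60660003020700040000030137353700415100002,
  0x70000000000000,
  0x100000000000000,
  0x4000400040000000400500051040000000,
  0x4000400040000000400035100040000000,
  0x22660400003020200040000000666673766462244002],
  [0x2202551000604020604000306613731732253514400]⟩

def lv : LB := [(1, 1, [7, 6, 5, 1]), (3, 1, [4, 3, 2])]

theorem r0 : D.consAll 12 R0 = true := by decide +kernel
theorem r1 : D.fusAll 16 R1 = true := by decide +kernel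
theorem xw : wordsOK 24 5 U X [[0x403080506060a09091013], [0xa090f1014], [0x8080c0b0d0f], [0xc0b0b0d0f0e13], [0x20202060508050b0a090e13], [0x304010605090a0b0e0d], [0x1060506060b0b0d0f0e], [0x50c09090f0e13], [0xc0909110d14], [0x8080a090f1013]] = true := by decide +kernel
theorem c1_0 : allRg (D.rowChk (stepT 24 5 X) (idTab 24 5)) 0 7 = true := by decide +kernel
theorem c2_0 : allRg (D.fusChk (stepT 24 5 X) (idTab 24 5)) 0 17 = true := by decide +kernel
theorem c3 : lbOK 24 X 7 (2 ^ 7) lv = true := by decide +kernel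
theorem c4 : D.basicOK A = true := by decide +kernel
theorem c5_0 : allRg (D.rowOK A) 0 7 = true := by decide +kernel

theorem pb {G : Type*} {Ω : Type*} [Group G] [MulAction G Ω] {pt : ℕ → Ω} (M : PModel G 24 pt)
    (h : AllReal G 24 pt V0) (hG : Nat.card G = 443520) : PBound G 2 [4] :=
  M.pBound (W := X) (k := 5) (D := D) (A := A) ((realU h).words (by norm_num) xw) (by norm_num) (by norm_num) rfl 2 rfl
    (by decide) rfl (by decide) (allRg_zero c1_0) (allRg_zero c2_0) c3 hG
    (by decide +kernel) ((D.allGood_cons 12 R0 (by norm_num) r0).append (D.allGood_fus 16 R1 (by norm_num) r1)) c4 (allRg_zero c5_0)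

end CfsgLib.MultC.M22.P2
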